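import Mathlib.Data.Fin.Basic
import Mathlib.Data.List.FinRange
import Mathlib.Tactic

/-! Computed certificates for two-prime-cycle generation in degrees 7 and 13.
Words are encoded in base 5 (digit `i+1` for generator `i`). -/

set_option autoImplicit false
set_option maxRecDepth 100000

namespace Cfsg.Agent.Lib.GenStruct.TwoPrimeCycles

/-- digits of an encoded word -/
def digits : ℕ → ℕ → List ℕ
  | 0, _ => []
  | fuel + 1, n => if n = 0 then [] else (n % 5 - 1) :: digits fuel (n / 5)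

/-- product of the generators along a word -/
def evalWord {n : ℕ} (gs : List (Fin n → Fin n)) : List ℕ → Fin n → Fin n
  | [] => id
  | i :: is => fun a => gs.getD i id (evalWord gs is a)

/-- `g` moves exactly `p` points and `g ^ p = 1` for some `p ∈ {3, 5, 7}` with `p + 3 ≤ n` -/
def smallCycle {n : ℕ} (g : Fin n → Fin n) : Bool :=
  [3, 5, 7].any fun p =>
    decide (p + 3 ≤ n) && decide (((List.finRange n).filter fun a => g a != a).length = p) &&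
      (List.finRange n).all fun a => g^[p] a == a

def inj {n : ℕ} (f : Fin n → Fin n) : Bool := decide ((List.finRange n).map f).Nodup

def x13 (a : Fin 13) : Fin 13 := if a.1 < 11 then ⟨(a.1 + 1) % 11, by omega⟩ else a
def z13 (a : Fin 13) : Fin 13 := if a.1 < 11 then ⟨(3 * a.1) % 11, by omega⟩ else a
def u13 (a : Fin 13) : Fin 13 :=
  if a.1 < 11 then ⟨(11 - a.1) % 11, by omega⟩ else if a.1 = 11 then 12 else 11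

def orbitOne : List ℕ := [1, 3, 9, 5, 4]
def orbitTwo : List ℕ := [2, 6, 7, 10, 8]

/-- the candidate maps normalizing `⟨z⟩` -/
def cand13 (sw : Bool) (j v₁ v₂ : ℕ) (a : Fin 13) : Fin 13 :=
  if a.1 = 11 then 11
  else if a.1 = 0 then (if sw then 12 else 0)
  else if a.1 = 12 then (if sw then 0 else 12)
  else if a.1 ∈ orbitOne then
    ⟨v₁ * orbitOne.getD (orbitOne.idxOf a.1 * j % 5) 1 % 11, by omega⟩
  else ⟨v₂ * orbitOne.getD (orbitTwo.idxOf a.1 * j % 5) 1 % 11, by omega⟩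

def key (n : ℕ) : ℕ × ℕ × ℕ := (n / 100 + 1, n / 10 % 10 + 1, n % 10 + 1)

def swapTable : List ℕ := [
  0, 598, 0, 0, 0, 24, 24, 24, 0, 24, 74867, 0, 1842867, 2937, 374337, 0, 0, 0, 14973, 0, 0, 24,
  0, 0, 0, 74812, 122, 572, 0, 3062, 0, 24, 0, 0, 0, 572, 122, 14742, 0, 572, 0, 24, 0, 0, 0,
  3062, 122, 572, 0, 367462, 587, 0, 74867, 74867, 74867, 0, 0, 0, 14973, 0, 74867, 0, 117,
  1842867, 374337, 0, 0, 0, 14973, 0, 74867, 0, 374337, 374337, 14687, 0, 0, 0, 14973, 0, 0, 24,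
  0, 0, 0, 122, 2992, 122, 0, 122, 14973, 0, 14973, 14973, 14973, 0, 0, 0, 23, 0, 0, 77492, 0, 0,
  0, 74972, 15598, 77492, 0, 74972, 77492, 0, 15598, 74972, 74972, 0, 0, 0, 77492, 0, 0, 77492,
  0, 0, 0, 77492, 74972, 74972, 0, 15598, 0, 74972, 0, 0, 0, 15598, 74972, 77492, 0, 77492, 0,
  15598, 0, 0, 0, 74972, 77492, 74972, 0, 77492, 14616, 0, 77492, 74972, 76161, 0, 0, 0, 15598,
  0, 74972, 0, 74972, 77492, 15598, 0, 0, 0, 75856, 0, 15598, 0, 77492, 77746, 74972, 0, 0, 0,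
  12096, 0, 0, 74972, 0, 0, 0, 77492, 77492, 15598, 0, 74972, 3046, 0, 74972, 13671, 44921, 0, 0,
  0, 74972, 0, 0, 77492, 0, 0, 0, 74972, 74972, 15598, 0, 77492, 77492, 0, 77746, 74972, 15598,
  0, 0, 0, 14616, 0, 0, 15598, 0, 0, 0, 77492, 74972, 77492, 0, 74972, 0, 74972, 0, 0, 0, 74972,
  77492, 77492, 0, 15598, 0, 74972, 0, 0, 0, 77492, 15598, 74972, 0, 77492, 74972, 0, 77492,
  15598, 74972, 0, 0, 0, 75856, 0, 15598, 0, 74972, 74972, 77492, 0, 0, 0, 46486, 0, 77492, 0,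
  74972, 77492, 12096, 0, 0, 0, 15598, 0, 0, 77492, 0, 0, 0, 15598, 77492, 74972, 0, 74972,
  74972, 0, 13671, 68361, 3046, 0, 0, 0, 74972, 0, 0, 61481, 0, 0, 0, 598, 1535531, 42763356, 0,
  228389616, 598, 0, 122, 122, 598, 0, 0, 0, 598, 0, 0, 213623046, 0, 0, 0, 1668531, 598,
  8552736, 0, 341796, 0, 598, 0, 0, 0, 68081, 213623046, 229116, 0, 5614296, 0, 279196, 0, 0, 0,
  42763356, 8552736, 598, 0, 14616, 122, 0, 598, 598, 598, 0, 0, 0, 122, 0, 598, 0, 122, 598,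
  122, 0, 0, 0, 598, 0, 122, 0, 598, 598, 122, 0, 0, 0, 598, 0, 0, 5614296, 0, 0, 0, 189012096,
  341796, 12096, 0, 598, 598, 0, 598, 122, 598, 0, 0, 0, 122, 0]

def fixTable : List ℕ := [
  0, 0, 0, 0, 0, 4, 4, 4, 0, 4, 2992, 0, 2992, 0, 2992, 0, 0, 0, 598, 0, 0, 4, 0, 0, 0, 0, 122,
  22, 0, 112, 0, 4, 0, 0, 0, 22, 22, 0, 0, 22, 0, 4, 0, 0, 0, 112, 112, 22, 0, 0, 0, 0, 13986,
  2992, 13356, 0, 0, 0, 598, 0, 14742, 0, 0, 546, 14742, 0, 0, 0, 546, 0, 546, 0, 14742, 2992, 0,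
  0, 0, 0, 546, 0, 0, 4, 0, 0, 0, 122, 0, 22, 0, 112, 598, 0, 598, 598, 598, 0, 0, 0, 0, 0, 0,
  68411, 0, 0, 0, 77992, 13986, 66781, 0, 14616, 546, 0, 13681, 74992, 74992, 0, 0, 0, 13486, 0,
  0, 77492, 0, 0, 0, 8946, 12096, 12096, 0, 546, 0, 77992, 0, 0, 0, 13356, 77992, 13671, 0,
  13356, 0, 68411, 0, 0, 0, 77992, 13671, 14616, 0, 546, 14616, 0, 546, 44866, 8946, 0, 0, 0,
  40231, 0, 74992, 0, 74992, 13356, 363706, 0, 0, 0, 13356, 0, 14616, 0, 44906, 13986, 74992, 0,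
  0, 0, 12096, 0, 0, 12096, 0, 0, 0, 8981, 13671, 13671, 0, 14616, 546, 0, 74992, 67106, 8946, 0,
  0, 0, 67866, 0, 0, 13671, 0, 0, 0, 14616, 74992, 13661, 0, 13671, 8946, 0, 13661, 77992, 14616,
  0, 0, 0, 14616, 0, 0, 13986, 0, 0, 0, 77992, 74992, 13986, 0, 14616, 0, 12096, 0, 0, 0, 14616,
  13671, 66781, 0, 13671, 0, 74992, 0, 0, 0, 69906, 13356, 74992, 0, 67431, 77992, 0, 13356,
  44931, 77992, 0, 0, 0, 13356, 0, 70231, 0, 61486, 77992, 546, 0, 0, 0, 2736, 0, 546, 0, 77992,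
  13656, 12096, 0, 0, 0, 13481, 0, 0, 546, 0, 0, 0, 546, 13356, 12096, 0, 12096, 68086, 0, 37106,
  13986, 546, 0, 0, 0, 77992, 0, 0, 2992, 0, 0, 0, 341811, 2992, 14962, 0, 14616, 341796, 0, 122,
  122, 612, 0, 0, 0, 612, 0, 0, 14962, 0, 0, 0, 2992, 1710531, 14962, 0, 2992, 0, 8537106, 0, 0,
  0, 2992, 14962, 2992, 0, 14962, 0, 2992, 0, 0, 0, 14962, 14962, 341796, 0, 2992, 122, 0,
  341796, 612, 612, 0, 0, 0, 122, 0, 612, 0, 122, 612, 122, 0, 0, 0, 8545866, 0, 122, 0, 612,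
  8552736, 122, 0, 0, 0, 612, 0, 0, 14962, 0, 0, 0, 12096, 2992, 2992, 0, 201171, 546, 0, 612,
  122, 8537106, 0, 0, 0, 122, 0]

def okSwap (n : ℕ) : Bool :=
  let f := cand13 true (key n).1 (key n).2.1 (key n).2.2
  !inj f || smallCycle (evalWord [x13, z13, u13, f] (digits 20 (swapTable.getD n 0)))

def okFix (n : ℕ) : Bool :=
  let f := cand13 false (key n).1 (key n).2.1 (key n).2.2
  !inj f || (List.range 5).any (fun i => (List.finRange 13).all fun a => f a == z13^[i] a) ||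
    !((List.finRange 13).all fun a => f^[25] a == a) ||
    smallCycle (evalWord [x13, z13, u13, f] (digits 20 (fixTable.getD n 0)))

theorem okSwap_all : (List.range 400).all okSwap = true := by decide +kernel

theorem okFix_all : (List.range 400).all okFix = true := by decide +kernel

def x7 (a : Fin 7) : Fin 7 := if a.1 < 5 then ⟨(a.1 + 1) % 5, by omega⟩ else a
def u7 (a : Fin 7) : Fin 7 :=
  if a.1 < 5 then ⟨(2 * a.1) % 5, by omega⟩ else if a.1 = 5 then 6 else 5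

/-- maps fixing 5 and sending 6 to 0, with the certificate word -/
def table7 : List (List (Fin 7) × ℕ) := [
  ([1, 2, 3, 4, 6, 5, 0], 2281),
  ([1, 2, 3, 6, 4, 5, 0], 2031),
  ([1, 2, 4, 3, 6, 5, 0], 436),
  ([1, 2, 4, 6, 3, 5, 0], 416),
  ([1, 2, 6, 3, 4, 5, 0], 8316),
  ([1, 2, 6, 4, 3, 5, 0], 466),
  ([1, 3, 2, 4, 6, 5, 0], 207206),
  ([1, 3, 2, 6, 4, 5, 0], 10406),
  ([1, 3, 4, 2, 6, 5, 0], 416),
  ([1, 3, 4, 6, 2, 5, 0], 436),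
  ([1, 3, 6, 2, 4, 5, 0], 1686),
  ([1, 3, 6, 4, 2, 5, 0], 456),
  ([1, 4, 2, 3, 6, 5, 0], 1591),
  ([1, 4, 2, 6, 3, 5, 0], 411),
  ([1, 4, 3, 2, 6, 5, 0], 87),
  ([1, 4, 3, 6, 2, 5, 0], 11592),
  ([1, 4, 6, 2, 3, 5, 0], 10206),
  ([1, 4, 6, 3, 2, 5, 0], 436),
  ([1, 6, 2, 3, 4, 5, 0], 3),
  ([1, 6, 2, 4, 3, 5, 0], 18),
  ([1, 6, 3, 2, 4, 5, 0], 18),
  ([1, 6, 3, 4, 2, 5, 0], 91),
  ([1, 6, 4, 2, 3, 5, 0], 10836),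
  ([1, 6, 4, 3, 2, 5, 0], 18),
  ([2, 1, 3, 4, 6, 5, 0], 336),
  ([2, 1, 3, 6, 4, 5, 0], 10962),
  ([2, 1, 4, 3, 6, 5, 0], 55461),
  ([2, 1, 4, 6, 3, 5, 0], 336),
  ([2, 1, 6, 3, 4, 5, 0], 3),
  ([2, 1, 6, 4, 3, 5, 0], 18),
  ([2, 3, 1, 4, 6, 5, 0], 416),
  ([2, 3, 1, 6, 4, 5, 0], 257286),
  ([2, 3, 4, 1, 6, 5, 0], 406),
  ([2, 3, 4, 6, 1, 5, 0], 91),
  ([2, 3, 6, 1, 4, 5, 0], 18),
  ([2, 3, 6, 4, 1, 5, 0], 406),
  ([2, 4, 1, 3, 6, 5, 0], 2311),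
  ([2, 4, 1, 6, 3, 5, 0], 2281),
  ([2, 4, 3, 1, 6, 5, 0], 52031),
  ([2, 4, 3, 6, 1, 5, 0], 87),
  ([2, 4, 6, 1, 3, 5, 0], 8316),
  ([2, 4, 6, 3, 1, 5, 0], 18),
  ([2, 6, 1, 3, 4, 5, 0], 416),
  ([2, 6, 1, 4, 3, 5, 0], 336),
  ([2, 6, 3, 1, 4, 5, 0], 86),
  ([2, 6, 3, 4, 1, 5, 0], 10836),
  ([2, 6, 4, 1, 3, 5, 0], 416),
  ([2, 6, 4, 3, 1, 5, 0], 91),
  ([3, 1, 2, 4, 6, 5, 0], 1591),
  ([3, 1, 2, 6, 4, 5, 0], 3),
  ([3, 1, 4, 2, 6, 5, 0], 331),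
  ([3, 1, 4, 6, 2, 5, 0], 18),
  ([3, 1, 6, 2, 4, 5, 0], 416),
  ([3, 1, 6, 4, 2, 5, 0], 8316),
  ([3, 2, 1, 4, 6, 5, 0], 1581),
  ([3, 2, 1, 6, 4, 5, 0], 18),
  ([3, 2, 4, 1, 6, 5, 0], 52031),
  ([3, 2, 4, 6, 1, 5, 0], 8466),
  ([3, 2, 6, 1, 4, 5, 0], 1581),
  ([3, 2, 6, 4, 1, 5, 0], 456),
  ([3, 4, 1, 2, 6, 5, 0], 11592),
  ([3, 4, 1, 6, 2, 5, 0], 81),
  ([3, 4, 2, 1, 6, 5, 0], 81),
  ([3, 4, 2, 6, 1, 5, 0], 18),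
  ([3, 4, 6, 1, 2, 5, 0], 2341),
  ([3, 4, 6, 2, 1, 5, 0], 87),
  ([3, 6, 1, 2, 4, 5, 0], 461),
  ([3, 6, 1, 4, 2, 5, 0], 91),
  ([3, 6, 2, 1, 4, 5, 0], 10836),
  ([3, 6, 2, 4, 1, 5, 0], 2186),
  ([3, 6, 4, 1, 2, 5, 0], 81),
  ([3, 6, 4, 2, 1, 5, 0], 416),
  ([4, 1, 2, 3, 6, 5, 0], 3),
  ([4, 1, 2, 6, 3, 5, 0], 42341),
  ([4, 1, 3, 2, 6, 5, 0], 18),
  ([4, 1, 3, 6, 2, 5, 0], 1711),
  ([4, 1, 6, 2, 3, 5, 0], 16),
  ([4, 1, 6, 3, 2, 5, 0], 416),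
  ([4, 2, 1, 3, 6, 5, 0], 18),
  ([4, 2, 1, 6, 3, 5, 0], 16),
  ([4, 2, 3, 1, 6, 5, 0], 11086),
  ([4, 2, 3, 6, 1, 5, 0], 416),
  ([4, 2, 6, 1, 3, 5, 0], 10206),
  ([4, 2, 6, 3, 1, 5, 0], 66),
  ([4, 3, 1, 2, 6, 5, 0], 16),
  ([4, 3, 1, 6, 2, 5, 0], 2281),
  ([4, 3, 2, 1, 6, 5, 0], 18),
  ([4, 3, 2, 6, 1, 5, 0], 316),
  ([4, 3, 6, 1, 2, 5, 0], 316),
  ([4, 3, 6, 2, 1, 5, 0], 8316),
  ([4, 6, 1, 2, 3, 5, 0], 456),
  ([4, 6, 1, 3, 2, 5, 0], 10836),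
  ([4, 6, 2, 1, 3, 5, 0], 316),
  ([4, 6, 2, 3, 1, 5, 0], 416),
  ([4, 6, 3, 1, 2, 5, 0], 91),
  ([4, 6, 3, 2, 1, 5, 0], 87),
  ([6, 1, 2, 3, 4, 5, 0], 11062),
  ([6, 1, 2, 4, 3, 5, 0], 336),
  ([6, 1, 3, 2, 4, 5, 0], 442),
  ([6, 1, 3, 4, 2, 5, 0], 18),
  ([6, 1, 4, 2, 3, 5, 0], 18),
  ([6, 1, 4, 3, 2, 5, 0], 436),
  ([6, 2, 1, 3, 4, 5, 0], 441),
  ([6, 2, 1, 4, 3, 5, 0], 442),
  ([6, 2, 3, 1, 4, 5, 0], 18),
  ([6, 2, 3, 4, 1, 5, 0], 456),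
  ([6, 2, 4, 1, 3, 5, 0], 442),
  ([6, 2, 4, 3, 1, 5, 0], 18),
  ([6, 3, 1, 2, 4, 5, 0], 18),
  ([6, 3, 1, 4, 2, 5, 0], 17),
  ([6, 3, 2, 1, 4, 5, 0], 316),
  ([6, 3, 2, 4, 1, 5, 0], 18),
  ([6, 3, 4, 1, 2, 5, 0], 442),
  ([6, 3, 4, 2, 1, 5, 0], 91),
  ([6, 4, 1, 2, 3, 5, 0], 16),
  ([6, 4, 1, 3, 2, 5, 0], 18),
  ([6, 4, 2, 1, 3, 5, 0], 18),
  ([6, 4, 2, 3, 1, 5, 0], 442),
  ([6, 4, 3, 1, 2, 5, 0], 81),
  ([6, 4, 3, 2, 1, 5, 0], 416)]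

def ok7 (e : List (Fin 7) × ℕ) : Bool :=
  smallCycle' (evalWord [x7, u7, fun a => e.1.getD a.1 a] (digits 20 e.2))
where
  smallCycle' (g : Fin 7 → Fin 7) : Bool :=
    decide (((List.finRange 7).filter fun a => g a != a).length = 3) &&
      (List.finRange 7).all fun a => g^[3] a == a

theorem ok7_all : table7.all ok7 = true := by decide +kernel

def pts7 : List (Fin 7) := [1, 2, 3, 4, 6]

theorem table7_complete : pts7.all (fun a => pts7.all fun b => pts7.all fun c => pts7.all fun d => pts7.all fun e =>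
    !decide [a, b, c, d, e].Nodup || (table7.map Prod.fst).contains [a, b, c, d, e, 5, 0]) = true := by decide +kernel

end Cfsg.Agent.Lib.GenStruct.TwoPrimeCycles
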