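import Mathlib
import Cfsg.Agent.Lib.GenStruct.TwoPrimeCycles.Cert
import Cfsg.Agent.Lib.Transfer.Fusion
import Cfsg.Agent.S0713

/-! Transitive even groups of degree 7 and 13 containing a 5-, resp. 11-cycle. -/

set_option autoImplicit false
set_option maxRecDepth 4000

namespace Cfsg.Agent.Lib.GenStruct.TwoPrimeCycles

open Equiv MulAction

variable {n : ℕ}

theorem exists_evalWord (H : Subgroup (Perm (Fin n))) (gs : List (Fin n → Fin n))
    (hgs : ∀ g ∈ gs, ∃ h ∈ H, ⇑h = g) : ∀ w : List ℕ, ∃ h ∈ H, ⇑h = evalWord gs w := by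
  intro w
  induction w with
  | nil => exact ⟨1, one_mem H, rfl⟩
  | cons i is ih =>
    obtain ⟨h, hh, he⟩ := ih
    have : ∃ k ∈ H, ⇑k = gs.getD i id := by
      rcases lt_or_ge i gs.length with hi | hi
      · rw [List.getD_eq_getElem _ _ hi]; exact hgs _ (List.getElem_mem hi)
      · rw [List.getD_eq_default _ _ hi]; exact ⟨1, one_mem H, rfl⟩
    obtain ⟨k, hk, hke⟩ := this
    refine ⟨k * h, mul_mem hk hh, funext fun a => ?_⟩
    simp only [evalWord, ← hke, Perm.mul_apply, ← he]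

theorem card_moved {g : Perm (Fin n)} :
    ((List.finRange n).filter fun a => g a != a).length = g.support.card := by
  rw [← List.toFinset_card_of_nodup ((List.nodup_finRange n).filter _)]
  congr 1
  ext a
  simp

theorem pow_eq_one_of_all {g : Perm (Fin n)} {p : ℕ}
    (h : (List.finRange n).all (fun a => (⇑g)^[p] a == a) = true) : g ^ p = 1 := by
  rw [List.all_eq_true] at h
  refine Perm.ext fun a => ?_
  rw [← Perm.iterate_eq_pow]
  exact beq_iff_eq.1 (h a (List.mem_finRange a))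

/-- A recognized small prime cycle in a primitive group forces the alternating group. -/
theorem alternating_le_of_smallCycle (H : Subgroup (Perm (Fin n))) (hH : IsPreprimitive H (Fin n))
    (hn : 5 ≤ n) {g : Perm (Fin n)} (hg : g ∈ H) (hc : smallCycle ⇑g = true) :
    alternatingGroup (Fin n) ≤ H := by
  simp only [smallCycle, List.any_eq_true, Bool.and_eq_true, decide_eq_true_eq] at hc
  obtain ⟨p, hp, ⟨hpn, hcard⟩, hall⟩ := hc
  rw [card_moved] at hcard
  have hpp : p.Prime := by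
    simp only [List.mem_cons, List.not_mem_nil, or_false] at hp
    rcases hp with rfl | rfl | rfl <;> norm_num
  have := Fact.mk hpp
  have hg1 : g ≠ 1 := fun h => hpp.ne_zero (by rw [← hcard, h, Perm.support_one, Finset.card_empty])
  have ho : orderOf g = p := orderOf_eq_prime (pow_eq_one_of_all hall) hg1
  have hcyc : g.IsCycle := Perm.isCycle_of_prime_order (ho ▸ hpp) (by rw [hcard, ho]; have := hpp.pos; omega)
  exact Cfsg.Agent.S0713.result H hH hpp (by rwa [Fintype.card_fin]) (by rwa [Fintype.card_fin]) hcyc hcard hg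

/-- In a primitive group, a point stabilizer containing a cycle on all but two points is transitive
on the other points. -/
theorem exists_stab_map {α : Type*} [Finite α] {H : Subgroup (Perm α)}
    (hH : IsPreprimitive H α) {x : Perm α} (hx : x ∈ H) (hx1 : x ≠ 1) {a b : α} (hab : a ≠ b)
    (hxa : x a = a) (hxb : x b = b) (hcyc : ∀ i j, i ≠ a → i ≠ b → j ≠ a → j ≠ b → ∃ k : ℕ, (x ^ k) i = j)
    {v : α} (hva : v ≠ a) (hvb : v ≠ b) : ∃ g ∈ H, g a = a ∧ g b = v := by
  have hnt : Nontrivial α := ⟨a, b, hab⟩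
  suffices hmove : ∃ g ∈ H, g a = a ∧ g b ≠ b by
    obtain ⟨g, hg, hga, hgb⟩ := hmove
    have hgba : g b ≠ a := fun h => hab (g.injective (hga.trans h.symm))
    obtain ⟨k, hk⟩ := hcyc (g b) v hgba hgb hva hvb
    refine ⟨x ^ k * g, mul_mem (pow_mem hx k) hg, ?_, hk⟩
    rw [Perm.mul_apply, hga]
    exact Perm.pow_apply_eq_self_of_apply_eq_self hxa k
  by_contra hno
  push Not at hno
  have hcoat : IsCoatom (stabilizer H a) := (by haveI := hH.toIsPretransitive; exact (isCoatom_stabilizer_iff_preprimitive H a).2 hH)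
  obtain ⟨⟨t, ht⟩, hta⟩ := hH.toIsPretransitive.exists_smul_eq a b
  have hle : stabilizer H a ≤ stabilizer H b := fun g hg => hno g g.2 hg
  have hab' : stabilizer H b = (stabilizer H a).map (MulAut.conj (⟨t, ht⟩ : H)).toMonoidHom := by
    rw [← hta, stabilizer_smul_eq_stabilizer_map_conj]
  have heq : stabilizer H a = stabilizer H b := Subgroup.eq_of_le_of_card_ge hle
    (le_of_eq (by rw [hab', Subgroup.card_map_of_injective (MulEquiv.injective _)]))
  have htn : (⟨t, ht⟩ : H) ∈ Subgroup.normalizer (stabilizer H a : Set H) := by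
    rw [Subgroup.mem_normalizer_iff]
    intro g
    conv_rhs => rw [heq, hab']
    constructor
    · exact fun hg => ⟨g, hg, rfl⟩
    · rintro ⟨g', hg', he⟩
      obtain rfl : g' = g := mul_left_cancel (mul_right_cancel he)
      exact hg'
  rcases (hcoat.le_iff.1 (Subgroup.le_normalizer (H := stabilizer H a))) with h | h
  · -- the stabilizer is normal, hence trivial
    apply hx1
    refine Perm.ext fun c => ?_
    obtain ⟨g, rfl⟩ := hH.toIsPretransitive.exists_smul_eq a c
    have hg : g ∈ Subgroup.normalizer (stabilizer H a : Set H) := h ▸ Subgroup.mem_top g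
    have hmem : g⁻¹ * (⟨x, hx⟩ : H) * g ∈ stabilizer H a := by
      have := (Subgroup.mem_normalizer_iff''.1 hg (⟨x, hx⟩ : H)).1 hxa
      exact this
    have h2 : (g⁻¹ * (⟨x, hx⟩ : H) * g) • a = a := hmem
    rw [mul_smul, mul_smul, inv_smul_eq_iff] at h2
    exact h2
  · rw [h] at htn
    exact hab ((show (⟨t, ht⟩ : H) • a = a from htn).symm.trans hta)

/-- An element normalizing a cyclic group generated by `x` acts affinely along the cycle. -/
theorem apply_pow {α : Type*} {x g : Perm α} {r : ℕ} (h : g * x * g⁻¹ = x ^ r) (k : ℕ) (i : α) :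
    g ((x ^ k) i) = (x ^ (r * k)) (g i) := by
  have : g * x ^ k = x ^ (r * k) * g := by
    rw [pow_mul, ← h, conj_pow, inv_mul_cancel_right]
  simpa [Perm.mul_apply] using Perm.congr_fun this i

theorem exists_pow_conj {G : Type*} [Group G] [Finite G] {x g : G}
    (hg : g ∈ Subgroup.normalizer (Subgroup.zpowers x : Set G)) : ∃ r : ℕ, g * x * g⁻¹ = x ^ r := by
  obtain ⟨r, hr⟩ := (mem_powers_iff_mem_zpowers (x := x)).2
    ((Subgroup.mem_normalizer_iff.1 hg x).1 (Subgroup.mem_zpowers x))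
  exact ⟨r, hr.symm⟩

/-- Frattini argument: a map normalizing `T` can be corrected inside `T` to normalize a Sylow subgroup. -/
theorem exists_frattini {G : Type*} [Group G] [Finite G] {p : ℕ} [Fact p.Prime] (T : Subgroup G)
    (P : Sylow p T) {g : G} (hg : g ∈ Subgroup.normalizer (T : Set G)) :
    ∃ t ∈ T, t * g ∈ Subgroup.normalizer (((P : Subgroup T).map T.subtype : Subgroup G) : Set G) := by
  set N := Subgroup.normalizer (T : Set G)
  set Q := (P : Subgroup T).map T.subtype
  haveI : (T.subgroupOf N).Normal := Subgroup.normal_in_normalizer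
  let e := Subgroup.subgroupOfEquivOfLe (Subgroup.le_normalizer (H := T))
  let P' : Sylow p (T.subgroupOf N) := P.comapOfInjective e.toMonoidHom e.injective
    (by rw [MonoidHom.range_eq_top.2 e.surjective]; exact le_top)
  have htop := P'.normalizer_sup_eq_top
  have hgN : (⟨g, hg⟩ : N) ∈ Subgroup.normalizer ((((P' : Subgroup (T.subgroupOf N)).map (T.subgroupOf N).subtype : Subgroup N)) : Set N) ⊔ T.subgroupOf N :=
    htop ▸ Subgroup.mem_top _
  rw [sup_comm, ← SetLike.mem_coe, Subgroup.normal_mul] at hgN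
  obtain ⟨t, ht, m, hm, htm⟩ := hgN
  refine ⟨(t : G)⁻¹, inv_mem (Subgroup.mem_subgroupOf.1 ht), ?_⟩
  have hmg : (t : G)⁻¹ * g = (m : G) := by
    rw [inv_mul_eq_iff_eq_mul]; exact (congrArg Subtype.val htm).symm
  rw [hmg]
  have hQ : ∀ y : N, y ∈ (P' : Subgroup (T.subgroupOf N)).map (T.subgroupOf N).subtype ↔ (y : G) ∈ Q := by
    intro y
    constructor
    · rintro ⟨w, hw, rfl⟩; exact ⟨e w, hw, rfl⟩
    · rintro ⟨w, hw, hwy⟩
      refine ⟨⟨y, Subgroup.mem_subgroupOf.2 (hwy ▸ w.2)⟩, ?_, rfl⟩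
      show e ⟨y, _⟩ ∈ (P : Subgroup T)
      have : e ⟨y, Subgroup.mem_subgroupOf.2 (hwy ▸ w.2)⟩ = w := Subtype.ext hwy.symm
      rwa [this]
  rw [Subgroup.mem_normalizer_iff]
  intro y
  constructor
  · intro hy
    have hyN : y ∈ N := Subgroup.le_normalizer (Subgroup.map_subtype_le _ hy)
    exact (hQ _).1 ((Subgroup.mem_normalizer_iff.1 hm ⟨y, hyN⟩).1 ((hQ _).2 hy))
  · intro hy
    have hyN : y ∈ N := by
      have := mul_mem (mul_mem (inv_mem m.2) (Subgroup.le_normalizer (Subgroup.map_subtype_le _ hy) : _ ∈ N)) m.2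
      simpa [mul_assoc] using this
    exact (hQ _).1 ((Subgroup.mem_normalizer_iff.1 hm ⟨y, hyN⟩).2 ((hQ ⟨_, _⟩).2 hy))

/-! ### Degree 7 -/

def X7 : Perm (Fin 7) := ⟨x7, fun a => if a.1 < 5 then ⟨(a.1 + 4) % 5, by omega⟩ else a,
  by decide, by decide⟩

def U7 : Perm (Fin 7) := ⟨u7, fun a => if a.1 < 5 then ⟨(3 * a.1) % 5, by omega⟩ else if a.1 = 5 then 6 else 5,
  by decide, by decide⟩

theorem cycle7 (i j : Fin 7) (hi5 : i ≠ 5) (hi6 : i ≠ 6) (hj5 : j ≠ 5) (hj6 : j ≠ 6) :
    ∃ k : ℕ, (X7 ^ k) i = j := by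
  refine ⟨(j.1 + 5 - i.1) % 5, ?_⟩
  revert i j
  decide

theorem alternating_le_seven (H : Subgroup (Perm (Fin 7))) (htr : IsPretransitive H (Fin 7))
    (hev : ∀ h ∈ H, Perm.sign h = 1) (hx : X7 ∈ H) : alternatingGroup (Fin 7) ≤ H := by
  classical
  haveI := htr
  have hH : IsPreprimitive H (Fin 7) := IsPreprimitive.of_prime_card (by rw [Nat.card_fin]; norm_num)
  have hX1 : X7 ≠ 1 := fun h => absurd (Perm.congr_fun h 0) (by decide)
  have hc : ∀ i j : Fin 7, i ≠ 5 → i ≠ 6 → j ≠ 5 → j ≠ 6 → ∃ k : ℕ, (X7 ^ k) i = j :=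
    fun i j h1 h2 h3 h4 => cycle7 i j h1 h2 h3 h4
  -- a map exchanging the two fixed points
  obtain ⟨g₀, hg₀, hg₀5, hg₀6⟩ := exists_stab_map hH hx hX1 (a := (5 : Fin 7)) (b := 6) (by decide) (by decide) (by decide) hc
    (v := 0) (by decide) (by decide)
  have hswap : ∃ g ∈ H, g 5 = 6 ∧ g 6 = 5 := by
    obtain ⟨⟨t, ht⟩, hte⟩ := htr.exists_smul_eq (5 : Fin 7) 6
    change t 5 = 6 at hte
    obtain ⟨h, hh, h6, h5⟩ : ∃ h ∈ H, h 6 = 6 ∧ h (t 6) = 5 := by
      have hne : t 6 ≠ 6 := fun h => absurd (t.injective (h.trans hte.symm)) (by decide)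
      by_cases h5 : t 6 = 5
      · exact ⟨1, one_mem H, rfl, h5⟩
      obtain ⟨g, hg, hg6, hg5⟩ := exists_stab_map hH hx hX1 (a := (6 : Fin 7)) (b := 5) (by decide) (by decide) (by decide)
        (fun i j a b c d => hc i j b a d c) (v := t 6) hne h5
      exact ⟨g⁻¹, inv_mem hg, by rw [Perm.inv_eq_iff_eq, hg6], by rw [Perm.inv_eq_iff_eq, hg5]⟩
    exact ⟨h * t, mul_mem hh ht, by rw [Perm.mul_apply, hte, h6], h5⟩
  obtain ⟨g, hg, hg5, hg6⟩ := hswap
  let T : Subgroup (Perm (Fin 7)) := H ⊓ (stabilizer (Perm (Fin 7)) (5 : Fin 7) ⊓ stabilizer (Perm (Fin 7)) (6 : Fin 7))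
  have hgT : g ∈ Subgroup.normalizer (T : Set (Perm (Fin 7))) := by
    rw [Subgroup.mem_normalizer_iff]
    intro y
    have e5 : g⁻¹ 5 = 6 := by rw [Perm.inv_eq_iff_eq, hg6]
    have e6 : g⁻¹ 6 = 5 := by rw [Perm.inv_eq_iff_eq, hg5]
    simp only [T, Subgroup.mem_inf, mem_stabilizer_iff, Perm.smul_def, Perm.mul_apply, e5, e6]
    constructor
    · rintro ⟨h, h5, h6⟩; exact ⟨mul_mem (mul_mem hg h) (inv_mem hg), by rw [h6, hg6], by rw [h5, hg5]⟩
    · rintro ⟨h, h5, h6⟩
      refine ⟨?_, g.injective (h6.trans hg5.symm), g.injective (h5.trans hg6.symm)⟩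
      simpa [mul_assoc] using mul_mem (mul_mem (inv_mem hg) h) hg
  have hXo : orderOf X7 = 5 := by
    haveI : Fact (Nat.Prime 5) := ⟨by norm_num⟩
    exact orderOf_eq_prime (Perm.ext (by decide)) hX1
  haveI : Fact (Nat.Prime 5) := ⟨by norm_num⟩
  have hxT : X7 ∈ T := ⟨hx, show X7 5 = 5 by decide, show X7 6 = 6 by decide⟩
  have hxp : IsPGroup 5 (Subgroup.zpowers (⟨X7, hxT⟩ : T)) :=
    IsPGroup.of_card (n := 1) (by rw [Nat.card_zpowers, Subgroup.orderOf_mk, hXo, pow_one])
  obtain ⟨P, hP⟩ := hxp.exists_le_sylow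
  have hPmap : (P : Subgroup T).map T.subtype = Subgroup.zpowers X7 := by
    refine (Subgroup.eq_of_le_of_card_ge ?_ ?_).symm
    · rw [Subgroup.zpowers_le]
      exact ⟨⟨X7, hxT⟩, hP (Subgroup.mem_zpowers _), rfl⟩
    · rw [Nat.card_zpowers, hXo, Subgroup.card_map_of_injective T.subtype_injective, P.card_eq_multiplicity]
      have hdvd : Nat.card T ∣ 5040 := by
        have := Subgroup.card_subgroup_dvd_card T
        rwa [Nat.card_perm, Nat.card_fin] at this
      have h2 : 5 ^ (Nat.card T).factorization 5 ∣ 5040 := (Nat.ordProj_dvd _ _).trans hdvd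
      rcases Nat.lt_or_ge ((Nat.card T).factorization 5) 2 with hlt | hge
      · exact le_trans (Nat.pow_le_pow_right (by norm_num) (Nat.le_of_lt_succ hlt)) (by norm_num)
      · exact absurd ((pow_dvd_pow 5 hge).trans h2) (by norm_num)
  obtain ⟨t, htT, hN⟩ := exists_frattini T P hgT
  rw [hPmap] at hN
  set v := t * g with hv
  have hvH : v ∈ H := mul_mem htT.1 hg
  have hv5 : v 5 = 6 := by rw [hv, Perm.mul_apply, hg5]; exact htT.2.2
  have hv6 : v 6 = 5 := by rw [hv, Perm.mul_apply, hg6]; exact htT.2.1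
  obtain ⟨r, hr⟩ := exists_pow_conj hN
  obtain ⟨k, hk⟩ := hc (v 0) 0 (fun h => absurd (v.injective (h.trans hv6.symm)) (by decide))
    (fun h => absurd (v.injective (h.trans hv5.symm)) (by decide)) (by decide) (by decide)
  -- normalize so that 0 is fixed
  have hwr : (X7 ^ k * v) * X7 * (X7 ^ k * v)⁻¹ = X7 ^ r := by
    calc X7 ^ k * v * X7 * (X7 ^ k * v)⁻¹ = X7 ^ k * (v * X7 * v⁻¹) * (X7 ^ k)⁻¹ := by group
      _ = X7 ^ k * X7 ^ r * (X7 ^ k)⁻¹ := by rw [hr]
      _ = _ := by rw [← pow_add, add_comm, pow_add, mul_inv_cancel_right]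
  set w := X7 ^ k * v with hw
  have hwH : w ∈ H := mul_mem (pow_mem hx k) hvH
  have hw0 : w 0 = 0 := hk
  have hw5 : w 5 = 6 := by rw [hw, Perm.mul_apply, hv5]; exact Perm.pow_apply_eq_self_of_apply_eq_self (by decide) k
  have hw6 : w 6 = 5 := by rw [hw, Perm.mul_apply, hv6]; exact Perm.pow_apply_eq_self_of_apply_eq_self (by decide) k
  have hUmem : U7 ∈ H := by
    have hval : ∀ i : Fin 5, w (Fin.castLE (by norm_num) i) = (X7 ^ ((r % 5) * i.1 % 5)) 0 := by
      intro i
      have e : Fin.castLE (by norm_num : 5 ≤ 7) i = (X7 ^ i.1) 0 := by revert i; decide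
      rw [e, apply_pow hwr, hw0]
      have h5 : r * i.1 % orderOf X7 = (r % 5) * i.1 % 5 := by
        rw [hXo, Nat.mul_mod, Nat.mod_eq_of_lt i.2]
      rw [← pow_mod_orderOf X7 (r * i.1), h5]
    have hext : ∀ f : Perm (Fin 7), f 0 = (X7 ^ 0) 0 → f 5 = 6 → f 6 = 5 →
        (∀ i : Fin 5, f (Fin.castLE (by norm_num) i) = (X7 ^ ((r % 5) * i.1 % 5)) 0) → w = f := by
      intro f f0 f5 f6 fi
      refine Perm.ext fun a => ?_
      rcases lt_or_ge a.1 5 with ha | ha
      · have e : a = Fin.castLE (by norm_num : 5 ≤ 7) ⟨a.1, ha⟩ := rfl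
        rw [e, hval, fi]
      · have : a = 5 ∨ a = 6 := by revert ha; revert a; decide
        rcases this with rfl | rfl
        · rw [hw5, f5]
        · rw [hw6, f6]
    have hr5 : r % 5 < 5 := Nat.mod_lt _ (by norm_num)
    interval_cases hrr : r % 5
    · exact absurd (w.injective ((hval 1).trans (hval 2).symm)) (by decide)
    · have e := hext (Equiv.swap 5 6) (by decide) (by decide) (by decide) (by decide)
      exact absurd (hev w hwH) (by rw [e, Perm.sign_swap (by decide)]; decide)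
    · exact hext U7 (by decide) (by decide) (by decide) (by decide) ▸ hwH
    · have e := hext U7⁻¹ (by decide) (by decide) (by decide) (by decide)
      exact inv_mem_iff.1 (e ▸ hwH)
    · have e := hext (Equiv.swap 1 4 * Equiv.swap 2 3 * Equiv.swap 5 6) (by decide) (by decide) (by decide) (by decide)
      exact absurd (hev w hwH) (by
        rw [e, map_mul, map_mul, Perm.sign_swap (by decide), Perm.sign_swap (by decide), Perm.sign_swap (by decide)]; decide)
  -- the certificate
  have hmem : ∀ a : Fin 7, a ∈ pts7 ↔ a ≠ 5 ∧ a ≠ 0 := by decide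
  have hin : ∀ i : Fin 7, i ≠ 5 → i ≠ 6 → g₀ i ∈ pts7 := fun i h1 h2 =>
    (hmem _).2 ⟨fun h => h1 (g₀.injective (h.trans hg₀5.symm)), fun h => h2 (g₀.injective (h.trans hg₀6.symm))⟩
  have hmap : (table7.map Prod.fst).contains [g₀ 0, g₀ 1, g₀ 2, g₀ 3, g₀ 4, 5, 0] = true := by
    have := table7_complete
    rw [List.all_eq_true] at this
    have h0 := this _ (hin 0 (by decide) (by decide))
    rw [List.all_eq_true] at h0
    have h1 := h0 _ (hin 1 (by decide) (by decide))
    rw [List.all_eq_true] at h1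
    have h2 := h1 _ (hin 2 (by decide) (by decide))
    rw [List.all_eq_true] at h2
    have h3 := h2 _ (hin 3 (by decide) (by decide))
    rw [List.all_eq_true] at h3
    have h4 := h3 _ (hin 4 (by decide) (by decide))
    rw [Bool.or_eq_true] at h4
    refine h4.resolve_left ?_
    simp only [Bool.not_eq_true', decide_eq_false_iff_not, not_not]
    exact (show ([0, 1, 2, 3, 4] : List (Fin 7)).Nodup by decide).map g₀.injective
  rw [List.contains_iff_mem, List.mem_map] at hmap
  obtain ⟨e, he, hef⟩ := hmap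
  have hok := List.all_eq_true.1 ok7_all e he
  have hfun : (fun a : Fin 7 => e.1.getD a.1 a) = ⇑g₀ := by
    funext a
    rw [hef]
    fin_cases a
    all_goals first | rfl | exact hg₀5.symm | exact hg₀6.symm
  rw [ok7, hfun, ok7.smallCycle'] at hok
  obtain ⟨h, hh, hhe⟩ := exists_evalWord H [x7, u7, ⇑g₀] (by
    intro f hf
    simp only [List.mem_cons, List.not_mem_nil, or_false] at hf
    rcases hf with rfl | rfl | rfl
    · exact ⟨X7, hx, rfl⟩
    · exact ⟨U7, hUmem, rfl⟩
    · exact ⟨g₀, hg₀, rfl⟩) (digits 20 e.2)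
  rw [← hhe] at hok
  simp only [Bool.and_eq_true, decide_eq_true_eq] at hok
  rw [card_moved] at hok
  exact Perm.alternatingGroup_le_of_isPreprimitive_of_isThreeCycle_mem hH
    (card_support_eq_three_iff.1 hok.1) hh

/-! ### Degree 13 -/

def X13 : Perm (Fin 13) := ⟨x13, fun a => if a.1 < 11 then ⟨(a.1 + 10) % 11, by omega⟩ else a,
  by decide, by decide⟩

def Z13 : Perm (Fin 13) := ⟨z13, fun a => if a.1 < 11 then ⟨(4 * a.1) % 11, by omega⟩ else a,
  by decide, by decide⟩

def U13 : Perm (Fin 13) := ⟨u13, u13, by decide, by decide⟩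

theorem cycle13 : ∀ i j : Fin 13, i ≠ 11 → i ≠ 12 → j ≠ 11 → j ≠ 12 →
    (X13 ^ ((j.1 + 11 - i.1) % 11)) i = j := by decide

def M13 (r : ℕ) (a : Fin 13) : Fin 13 := if a.1 < 11 then ⟨r * a.1 % 11, by omega⟩ else a

theorem conj_mem_normalizer_inf {α : Type*} {H : Subgroup (Perm α)} {a b : α} {g : Perm α} (hg : g ∈ H)
    (h : g a = a ∧ g b = b ∨ g a = b ∧ g b = a) :
    g ∈ Subgroup.normalizer ((H ⊓ (stabilizer (Perm α) a ⊓ stabilizer (Perm α) b) : Subgroup (Perm α)) : Set (Perm α)) := by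
  rw [Subgroup.mem_normalizer_iff]
  intro y
  simp only [Subgroup.mem_inf, mem_stabilizer_iff, Perm.smul_def, Perm.mul_apply]
  have hmem : g * y * g⁻¹ ∈ H ↔ y ∈ H := by
    rw [H.mul_mem_cancel_right (inv_mem hg), H.mul_mem_cancel_left hg]
  rcases h with ⟨ha, hb⟩ | ⟨ha, hb⟩
  · have ea : g⁻¹ a = a := by rw [Perm.inv_eq_iff_eq, ha]
    have eb : g⁻¹ b = b := by rw [Perm.inv_eq_iff_eq, hb]
    rw [hmem, ea, eb]
    refine and_congr_right fun _ => and_congr ⟨fun e => by rw [e, ha], fun e => g.injective (e.trans ha.symm)⟩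
      ⟨fun e => by rw [e, hb], fun e => g.injective (e.trans hb.symm)⟩
  · have ea : g⁻¹ a = b := by rw [Perm.inv_eq_iff_eq, hb]
    have eb : g⁻¹ b = a := by rw [Perm.inv_eq_iff_eq, ha]
    rw [hmem, ea, eb]
    refine and_congr_right fun _ => ?_
    rw [and_comm]
    exact and_congr ⟨fun e => by rw [e, hb], fun e => g.injective (e.trans hb.symm)⟩
      ⟨fun e => by rw [e, ha], fun e => g.injective (e.trans ha.symm)⟩

/-- In a `p`-nilpotent group acting with a `p`-cycle on a `p`-set, the complement is trivial there. -/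
theorem complement_fixes {G : Type*} [Group G] [Finite G] {α : Type*} [MulAction G α] [IsPretransitive G α]
    {p : ℕ} [hp : Fact p.Prime] (hα : Nat.card α = p) {K : Subgroup G} [K.Normal] (hK : ¬ p ∣ Nat.card K)
    (k : K) (i : α) : (k : G) • i = i := by
  have hB := IsBlock.orbit_of_normal (G := G) (N := K) i
  haveI : Finite α := Nat.finite_of_card_ne_zero (hα ▸ hp.out.ne_zero)
  have h1 := hB.ncard_dvd_card ⟨i, mem_orbit_self i⟩
  have h2 : (orbit K i).ncard ∣ Nat.card K := by
    rw [← index_stabilizer]; exact Subgroup.index_dvd_card _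
  rcases (Nat.dvd_prime hp.out).1 (hα ▸ h1) with h | h
  · obtain ⟨c, hc⟩ := Set.ncard_eq_one.1 h
    have e1 : i = c := by have := mem_orbit_self (M := K) i; rwa [hc] at this
    have e2 : (k : G) • i = c := by have := mem_orbit i k; rwa [hc] at this
    rw [e2, e1]
  · exact absurd (h ▸ h2) hK

/-- the affine map `i ↦ r i` after translating so that `0` is fixed -/
theorem affine13 {v : Perm (Fin 13)} {r : ℕ} (hr : v * X13 * v⁻¹ = X13 ^ r) (hv0 : v 0 ≠ 11 ∧ v 0 ≠ 12) :
    ∃ k : ℕ, ∀ a : Fin 13, (X13 ^ k * v) a = if a.1 < 11 then M13 r a else (X13 ^ k) (v a) := by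
  refine ⟨(0 + 11 - (v 0).1) % 11, fun a => ?_⟩
  set k := (0 + 11 - (v 0).1) % 11
  have hk : (X13 ^ k) (v 0) = 0 := cycle13 _ 0 hv0.1 hv0.2 (by decide) (by decide)
  split_ifs with ha
  · have e : a = (X13 ^ a.1) 0 := by revert ha; revert a; decide
    rw [e, Perm.mul_apply, apply_pow hr, ← Perm.mul_apply, ← pow_add, add_comm, pow_add, Perm.mul_apply, hk, ← e]
    have ho : X13 ^ 11 = 1 := Perm.ext (by decide)
    rw [← Nat.mod_add_div (r * a.1) 11, pow_add, pow_mul, ho, one_pow, mul_one]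
    have key : ∀ m : Fin 11, ((X13 ^ m.1) 0).1 = m.1 := by decide
    refine Fin.ext ?_
    rw [key ⟨r * a.1 % 11, Nat.mod_lt _ (by norm_num)⟩]
    simp only [M13, if_pos ha]
  · rfl

/-- `N_H(⟨z⟩)` candidate maps are determined by their multiplier and two values -/
theorem cand_eq (g : Perm (Fin 13)) {j : ℕ} (hj : g * Z13 * g⁻¹ = Z13 ^ j) (sw : Bool) (h11 : g 11 = 11)
    (h0 : g 0 = if sw then 12 else 0) (h12 : g 12 = if sw then 0 else 12) :
    ∃ n < 400, ⇑g = cand13 sw (key n).1 (key n).2.1 (key n).2.2 := by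
  classical
  set j' := j % 5 with hj'
  have ho : Z13 ^ 5 = 1 := Perm.ext (by decide)
  have hne : ∀ i : Fin 13, i ≠ 0 → i ≠ 11 → i ≠ 12 → g i ≠ 0 ∧ g i ≠ 11 ∧ g i ≠ 12 := by
    intro i h1 h2 h3
    cases sw <;> simp only [Bool.false_eq_true, if_false, if_true] at h0 h12
    · exact ⟨fun h => h1 (g.injective (h.trans h0.symm)), fun h => h2 (g.injective (h.trans h11.symm)), fun h => h3 (g.injective (h.trans h12.symm))⟩
    · exact ⟨fun h => h3 (g.injective (h.trans h12.symm)), fun h => h2 (g.injective (h.trans h11.symm)), fun h => h1 (g.injective (h.trans h0.symm))⟩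
  have hj0 : j' ≠ 0 := by
    intro h
    have h1 : Z13 ^ j = 1 := by rw [← Nat.mod_add_div j 5, ← hj', h, zero_add, pow_mul, ho, one_pow]
    rw [h1, mul_inv_eq_one, mul_eq_left] at hj
    exact absurd (Perm.congr_fun hj 1) (by decide)
  have hj5 : j' < 5 := Nat.mod_lt _ (by norm_num)
  obtain ⟨v1, hv1⟩ : ∃ v : ℕ, v + 1 = (g 1).1 := ⟨(g 1).1 - 1, by
    have := (hne 1 (by decide) (by decide) (by decide)).1
    have h0 : (g 1).1 ≠ 0 := fun h => this (Fin.ext h)
    omega⟩
  obtain ⟨v2, hv2⟩ : ∃ v : ℕ, v + 1 = (g 2).1 := ⟨(g 2).1 - 1, by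
    have := (hne 2 (by decide) (by decide) (by decide)).1
    have h0 : (g 2).1 ≠ 0 := fun h => this (Fin.ext h)
    omega⟩
  have hb : ∀ i : Fin 13, i ≠ 0 → i ≠ 11 → i ≠ 12 → (g i).1 < 11 := by
    intro i a b c
    obtain ⟨-, h1, h2⟩ := hne i a b c
    have h1' : (g i).1 ≠ 11 := fun h => h1 (Fin.ext h)
    have h2' : (g i).1 ≠ 12 := fun h => h2 (Fin.ext h)
    omega
  have hb1 := hb 1 (by decide) (by decide) (by decide)
  have hb2 := hb 2 (by decide) (by decide) (by decide)
  refine ⟨(j' - 1) * 100 + v1 * 10 + v2, by omega, funext fun a => ?_⟩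
  have hk : key ((j' - 1) * 100 + v1 * 10 + v2) = (j', (g 1).1, (g 2).1) := by
    simp only [key, Prod.mk.injEq]
    omega
  rw [hk]
  have hpt : ∀ (base : Fin 13) (e : Fin 5), g ((Z13 ^ e.1) base) = (Z13 ^ (j' * e.1 % 5)) (g base) := by
    intro base e
    rw [apply_pow hj]
    rw [pow_eq_pow_mod (j * e.1) ho, hj', Nat.mod_mul_mod]
  have hcases : ∀ a : Fin 13, a = 11 ∨ a = 0 ∨ a = 12 ∨ (∃ e : Fin 5, a = (Z13 ^ e.1) 1) ∨ ∃ e : Fin 5, a = (Z13 ^ e.1) 2 := by decide
  have hval : ∀ (v : Fin 13) (m : Fin 5), v.1 < 11 → ((Z13 ^ m.1) v).1 = v.1 * orbitOne.getD m.1 1 % 11 := by decide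
  rcases hcases a with rfl | rfl | rfl | ⟨e, rfl⟩ | ⟨e, rfl⟩
  · rw [h11]; rfl
  · rw [h0]; rfl
  · rw [h12]; rfl
  · have hshape : ∀ (e : Fin 5) (J V W : ℕ), (cand13 sw J V W ((Z13 ^ e.1) 1)).1 = V * orbitOne.getD (e.1 * J % 5) 1 % 11 := by
      intro e J V W
      fin_cases e <;> simp [cand13, Z13, z13, orbitOne, pow_succ, Perm.mul_apply]
    refine Fin.ext ?_
    rw [hpt, hshape, hval _ ⟨j' * e.1 % 5, Nat.mod_lt _ (by norm_num)⟩ hb1, mul_comm j']
  · have hshape : ∀ (e : Fin 5) (J V W : ℕ), (cand13 sw J V W ((Z13 ^ e.1) 2)).1 = W * orbitOne.getD (e.1 * J % 5) 1 % 11 := by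
      intro e J V W
      fin_cases e <;> simp [cand13, Z13, z13, orbitOne, orbitTwo, pow_succ, Perm.mul_apply]
    refine Fin.ext ?_
    rw [hpt, hshape, hval _ ⟨j' * e.1 % 5, Nat.mod_lt _ (by norm_num)⟩ hb2, mul_comm j']

theorem alternating_le_thirteen (H : Subgroup (Perm (Fin 13))) (htr : IsPretransitive H (Fin 13))
    (hev : ∀ h ∈ H, Perm.sign h = 1) (hx : X13 ∈ H) : alternatingGroup (Fin 13) ≤ H := by
  classical
  haveI := htr
  haveI h11p : Fact (Nat.Prime 11) := ⟨by norm_num⟩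
  haveI h5p : Fact (Nat.Prime 5) := ⟨by norm_num⟩
  have hH : IsPreprimitive H (Fin 13) := IsPreprimitive.of_prime_card (by rw [Nat.card_fin]; norm_num)
  have hX1 : X13 ≠ 1 := fun h => absurd (Perm.congr_fun h 0) (by decide)
  have hXo : orderOf X13 = 11 := orderOf_eq_prime (Perm.ext (by decide)) hX1
  have hc : ∀ i j : Fin 13, i ≠ 11 → i ≠ 12 → j ≠ 11 → j ≠ 12 → ∃ k : ℕ, (X13 ^ k) i = j :=
    fun i j a b c d => ⟨_, cycle13 i j a b c d⟩
  have hmove : ∀ v : Fin 13, v ≠ 11 → v ≠ 12 → ∃ g ∈ H, g 11 = 11 ∧ g 12 = v := fun v a b =>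
    exists_stab_map hH hx hX1 (by decide) (by decide) (by decide) hc a b
  have hmove' : ∀ v : Fin 13, v ≠ 12 → v ≠ 11 → ∃ g ∈ H, g 12 = 12 ∧ g 11 = v := fun v a b =>
    exists_stab_map hH hx hX1 (by decide) (by decide) (by decide) (fun i j a b c d => hc i j b a d c) a b
  have hgenp : ∀ T : Subgroup (Perm (Fin 13)), ∀ q : ℕ, q.Prime → 7 ≤ q → (Nat.card T).factorization q ≤ 1 := by
    intro T q hq hq7
    by_contra hgt
    push Not at hgt
    have hdvd : Nat.card T ∣ Nat.factorial 13 := by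
      have := Subgroup.card_subgroup_dvd_card T
      rwa [Nat.card_perm, Nat.card_fin] at this
    have h2 : q ^ 2 ∣ Nat.factorial 13 := (pow_dvd_pow q hgt).trans ((Nat.ordProj_dvd _ _).trans hdvd)
    have hle : q ≤ 13 := (hq.dvd_factorial).1 ((dvd_pow_self q two_ne_zero).trans h2)
    interval_cases q <;> first | (norm_num at hq; done) | exact absurd h2 (by decide)
  -- `T` is the two-point stabilizer
  set T : Subgroup (Perm (Fin 13)) := H ⊓ (stabilizer (Perm (Fin 13)) (11 : Fin 13) ⊓ stabilizer (Perm (Fin 13)) (12 : Fin 13)) with hTdef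
  have hxT : X13 ∈ T := ⟨hx, show X13 11 = 11 by decide, show X13 12 = 12 by decide⟩
  have hsyl : ∀ U : Subgroup (Perm (Fin 13)), X13 ∈ U → ∀ P : Sylow 11 U, ∀ hxU : X13 ∈ U, (⟨X13, hxU⟩ : U) ∈ (P : Subgroup U) →
      (P : Subgroup U).map U.subtype = Subgroup.zpowers X13 := by
    intro U _ P hxU hxP
    refine (Subgroup.eq_of_le_of_card_ge (Subgroup.zpowers_le.2 (Subgroup.mem_map_of_mem U.subtype hxP)) ?_).symm
    rw [Nat.card_zpowers, Subgroup.card_map_of_injective U.subtype_injective, P.card_eq_multiplicity,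
      show U.subtype ⟨X13, hxU⟩ = X13 from rfl, hXo]
    exact le_trans (Nat.pow_le_pow_right (by norm_num) (hgenp U 11 (by norm_num) (by norm_num))) (by norm_num)
  have hxp : ∀ (U : Subgroup (Perm (Fin 13))) (hxU : X13 ∈ U), IsPGroup 11 (Subgroup.zpowers (⟨X13, hxU⟩ : U)) :=
    fun U hxU => IsPGroup.of_card (n := 1) (by rw [Nat.card_zpowers, Subgroup.orderOf_mk, hXo, pow_one])
  obtain ⟨P, hP⟩ := (hxp T hxT).exists_le_sylow
  have hPmap := hsyl T hxT P hxT (hP (Subgroup.mem_zpowers _))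
  -- some element of T acts nontrivially on the cycle
  have hzex : ∃ v ∈ T, v ∈ Subgroup.normalizer (Subgroup.zpowers X13 : Set (Perm (Fin 13))) ∧ v * X13 * v⁻¹ ≠ X13 := by
    by_contra hno
    push Not at hno
    -- the stabilizer of 11 has a normal 11-complement
    set S : Subgroup (Perm (Fin 13)) := H ⊓ stabilizer (Perm (Fin 13)) (11 : Fin 13) with hSdef
    have hxS : X13 ∈ S := ⟨hx, hxT.2.1⟩
    obtain ⟨Q, hQ⟩ := (hxp S hxS).exists_le_sylow
    have hQmap := hsyl S hxS Q hxS (hQ (Subgroup.mem_zpowers _))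
    have hNC : Subgroup.normalizer ((Q : Subgroup S) : Set S) ≤ Subgroup.centralizer ((Q : Subgroup S) : Set S) := by
      intro v hv
      have hvN : (v : Perm (Fin 13)) ∈ Subgroup.normalizer (Subgroup.zpowers X13 : Set (Perm (Fin 13))) := by
        rw [← hQmap]
        exact Subgroup.le_normalizer_map _ ⟨v, hv, rfl⟩
      -- v fixes 12, the other fixed point of X13
      obtain ⟨r, hr⟩ := exists_pow_conj hvN
      have h11 : (v : Perm (Fin 13)) 11 = 11 := v.2.2
      have h12 : (v : Perm (Fin 13)) 12 = 12 := by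
        by_contra hne
        have hne' : (v : Perm (Fin 13)) 12 ≠ 11 := fun h => absurd ((v : Perm (Fin 13)).injective (h.trans h11.symm)) (by decide)
        have h0 : (X13 ^ r) ((v : Perm (Fin 13)) 12) = (v : Perm (Fin 13)) 12 := by
          have := apply_pow hr 1 (12 : Fin 13)
          rw [mul_one, pow_one, show X13 12 = 12 by decide] at this
          exact this.symm
        have hfix : ∀ (i : Fin 13) (m : Fin 11), m.1 ≠ 0 → i ≠ 11 → i ≠ 12 → (X13 ^ m.1) i ≠ i := by decide
        have hrm : X13 ^ r = X13 ^ (r % 11) := by rw [← hXo, pow_mod_orderOf]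
        by_cases hr0 : r % 11 = 0
        · rw [hrm, hr0, pow_zero, mul_inv_eq_one, mul_eq_left] at hr
          exact hX1 hr
        · exact hfix _ ⟨r % 11, Nat.mod_lt _ (by norm_num)⟩ hr0 hne' hne (by rw [← hrm]; exact h0)
      rw [Subgroup.mem_centralizer_iff]
      intro y hy
      have hyx : (y : Perm (Fin 13)) ∈ Subgroup.zpowers X13 := hQmap ▸ ⟨y, hy, rfl⟩
      obtain ⟨i, hi⟩ := Subgroup.mem_zpowers_iff.1 hyx
      have hcx : Commute (v : Perm (Fin 13)) X13 :=
        mul_inv_eq_iff_eq_mul.1 (hno v ⟨v.2.1, h11, h12⟩ hvN)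
      refine Subtype.ext ?_
      show (y : Perm (Fin 13)) * v = v * y
      rw [← hi]
      exact (hcx.zpow_right i).eq.symm
    obtain ⟨Q', K, hKn, hKQ⟩ := Cfsg.Agent.Lib.Transfer.hasNormalPComplement_of_normalizer_le_centralizer Q hNC
    haveI := hKn
    have hK11 : ¬ 11 ∣ Nat.card K := by
      have := Cfsg.Agent.Lib.Transfer.hasNormalPComplement_iff.1 ⟨Q', K, hKn, hKQ⟩
      intro hd
      obtain ⟨k, hk⟩ := exists_prime_orderOf_dvd_card' 11 hd
      have hk' : orderOf (k : S) = 11 := by rw [Subgroup.orderOf_coe, hk]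
      have hidx : K.index = Nat.card (Q' : Subgroup S) := Subgroup.IsComplement'.index_eq_card hKQ.symm
      have hmul := K.card_mul_index
      rw [hidx, Q'.card_eq_multiplicity] at hmul
      have h1 := hgenp S 11 (by norm_num) (by norm_num)
      have hpos : 0 < (Nat.card S).factorization 11 :=
        Nat.Prime.factorization_pos_of_dvd (by norm_num) Nat.card_pos.ne' (hk' ▸ orderOf_dvd_natCard _)
      have e : (Nat.card S).factorization 11 = 1 := by omega
      have h121 : 11 ^ 2 ∣ Nat.card S := by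
        rw [← hmul, e, pow_one, sq]; exact mul_dvd_mul_right hd 11
      have := (Nat.Prime.pow_dvd_iff_le_factorization (by norm_num) Nat.card_pos.ne').1 h121
      omega
    -- K is regular on the twelve points other than 11
    have hregT : ∀ y : Perm (Fin 13), y ∈ T → y ∈ Subgroup.zpowers X13 := by
      have hNCT : Subgroup.normalizer ((P : Subgroup T) : Set T) ≤ Subgroup.centralizer ((P : Subgroup T) : Set T) := by
        intro v hv
        have hvN : (v : Perm (Fin 13)) ∈ Subgroup.normalizer (Subgroup.zpowers X13 : Set (Perm (Fin 13))) := by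
          rw [← hPmap]
          exact Subgroup.le_normalizer_map _ ⟨v, hv, rfl⟩
        rw [Subgroup.mem_centralizer_iff]
        intro y hy
        have hyx : (y : Perm (Fin 13)) ∈ Subgroup.zpowers X13 := hPmap ▸ ⟨y, hy, rfl⟩
        obtain ⟨i, hi⟩ := Subgroup.mem_zpowers_iff.1 hyx
        refine Subtype.ext ?_
        show (y : Perm (Fin 13)) * v = v * y
        rw [← hi]
        exact ((show Commute (v : Perm (Fin 13)) X13 from mul_inv_eq_iff_eq_mul.1 (hno v v.2 hvN)).zpow_right i).eq.symm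
      obtain ⟨P', L, hLn, hLP⟩ := Cfsg.Agent.Lib.Transfer.hasNormalPComplement_of_normalizer_le_centralizer P hNCT
      haveI := hLn
      have hL11 : ¬ 11 ∣ Nat.card L := by
        intro hd
        have hidx : L.index = Nat.card (P' : Subgroup T) := Subgroup.IsComplement'.index_eq_card hLP.symm
        have hmul := L.card_mul_index
        rw [hidx, P'.card_eq_multiplicity] at hmul
        have h1 := hgenp T 11 (by norm_num) (by norm_num)
        have hpos : 0 < (Nat.card T).factorization 11 :=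
          Nat.Prime.factorization_pos_of_dvd (by norm_num) Nat.card_pos.ne'
            (hd.trans (Subgroup.card_subgroup_dvd_card L))
        have e : (Nat.card T).factorization 11 = 1 := by omega
        have h121 : 11 ^ 2 ∣ Nat.card T := by
          rw [← hmul, e, pow_one, sq]; exact mul_dvd_mul_right hd 11
        have := (Nat.Prime.pow_dvd_iff_le_factorization (by norm_num) Nat.card_pos.ne').1 h121
        omega
      -- L fixes the support of X13
      let Ω := {i : Fin 13 // i ≠ 11 ∧ i ≠ 12}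
      letI : MulAction T Ω :=
        { smul := fun t i => ⟨(t : Perm (Fin 13)) i.1,
            fun h => i.2.1 ((t : Perm (Fin 13)).injective (h.trans (show (t : Perm (Fin 13)) 11 = 11 from t.2.2.1).symm)),
            fun h => i.2.2 ((t : Perm (Fin 13)).injective (h.trans (show (t : Perm (Fin 13)) 12 = 12 from t.2.2.2).symm))⟩
          one_smul := fun i => Subtype.ext rfl
          mul_smul := fun s t i => Subtype.ext rfl }
      haveI : IsPretransitive T Ω := ⟨fun i j => by
        obtain ⟨k, hk⟩ := hc i.1 j.1 i.2.1 i.2.2 j.2.1 j.2.2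
        exact ⟨⟨X13 ^ k, pow_mem hxT k⟩, Subtype.ext hk⟩⟩
      have hΩ : Nat.card Ω = 11 := by rw [Nat.card_eq_fintype_card]; decide
      have hLbot : ∀ l : L, (l : T) = 1 := by
        intro l
        refine Subtype.ext (Perm.ext fun i => ?_)
        by_cases hi : i ≠ 11 ∧ i ≠ 12
        · exact congrArg Subtype.val (complement_fixes hΩ hL11 l (⟨i, hi⟩ : Ω))
        · rcases not_and_or.1 hi with h | h <;> rw [ne_eq, not_not] at h <;> subst h
          · exact (l : T).2.2.1
          · exact (l : T).2.2.2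
      have hLe : L = ⊥ := (Subgroup.eq_bot_iff_forall L).2 fun l hl => hLbot ⟨l, hl⟩
      have hPtop : (P' : Subgroup T) = ⊤ := by
        rw [← hLP.sup_eq_top, hLe, bot_sup_eq]
      intro y hy
      obtain ⟨c, hc⟩ := MulAction.exists_smul_eq T P' P
      have hPtop' : (P : Subgroup T) = ⊤ := by rw [← hc, Sylow.coe_subgroup_smul, hPtop]; simp
      exact hPmap ▸ ⟨⟨y, hy⟩, hPtop' ▸ Subgroup.mem_top _, rfl⟩
    -- hence all nontrivial elements of K are conjugate under X13
    let f : K → Fin 13 := fun k => ((k : S) : Perm (Fin 13)) 12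
    have hfinj : Function.Injective f := by
      intro k l hkl
      have hmem : ((l⁻¹ * k : K) : S).1 ∈ Subgroup.zpowers X13 := hregT _ ⟨((l⁻¹ * k : K) : S).2.1,
        ((l⁻¹ * k : K) : S).2.2, by
          show (((l : S) : Perm (Fin 13))⁻¹ * ((k : S) : Perm (Fin 13))) 12 = 12
          rw [Perm.mul_apply, Perm.inv_eq_iff_eq]; exact hkl⟩
      have h1 : orderOf (l⁻¹ * k : K) ∣ 11 := by
        rw [← Subgroup.orderOf_coe, ← Subgroup.orderOf_coe]
        exact hXo ▸ orderOf_dvd_of_mem_zpowers hmem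
      rcases (Nat.dvd_prime (by norm_num)).1 h1 with h | h
      · exact (inv_mul_eq_one.1 (orderOf_eq_one_iff.1 h)).symm
      · exact absurd (h ▸ orderOf_dvd_natCard _) hK11
    have hKmove : ∀ k : K, k ≠ 1 → f k ≠ 11 ∧ f k ≠ 12 := fun k hk =>
      ⟨fun h => absurd (((k : S) : Perm (Fin 13)).injective (h.trans (k : S).2.2.symm)) (by decide),
        fun h => hk (hfinj (h.trans (show (12 : Fin 13) = f 1 from rfl)))⟩
    have hKcard : 11 * Nat.card K = Nat.card S := by
      have := K.card_mul_index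
      rw [Subgroup.IsComplement'.index_eq_card hKQ.symm, Q'.card_eq_multiplicity] at this
      have hpos : 0 < (Nat.card S).factorization 11 := Nat.Prime.factorization_pos_of_dvd (by norm_num) Nat.card_pos.ne'
        (by rw [← hXo, ← Subgroup.orderOf_mk X13 hxS]; exact orderOf_dvd_natCard _)
      have h1 := hgenp S 11 (by norm_num) (by norm_num)
      rw [show (Nat.card S).factorization 11 = 1 by omega, pow_one] at this
      rw [mul_comm]; exact this
    -- a nontrivial element exists and all of them have the same order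
    have hk12 : 12 ∣ Nat.card K := by
      obtain ⟨g, hg, hg11, hg12⟩ := hmove 0 (by decide) (by decide)
      have hsub : (Finset.univ : Finset (Fin 13)).filter (fun i => i ≠ 11) ⊆
          (Set.toFinite (Set.range fun s : S => (s : Perm (Fin 13)) 12)).toFinset := by
        intro i hi
        rw [Finset.mem_filter] at hi
        rw [Set.Finite.mem_toFinset]
        by_cases h12 : i = 12
        · exact ⟨1, h12.symm⟩
        · obtain ⟨g, hg, ga, gb⟩ := hmove i hi.2 h12
          exact ⟨⟨g, hg, ga⟩, gb⟩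
      let φ : S → {i : Fin 13 // i ≠ 11} := fun s => ⟨(s : Perm (Fin 13)) 12, fun h =>
        absurd ((s : Perm (Fin 13)).injective (h.trans s.2.2.symm)) (by decide)⟩
      have hφ : Function.Surjective φ := fun i => by
        by_cases h12 : i.1 = 12
        · exact ⟨1, Subtype.ext h12.symm⟩
        · obtain ⟨g, hg, ga, gb⟩ := hmove i.1 i.2 h12
          exact ⟨⟨g, hg, ga⟩, Subtype.ext gb⟩
      have hle : 12 ≤ Nat.card S := by
        have := Nat.card_le_card_of_surjective φ hφ
        rwa [Nat.card_eq_fintype_card (α := {i : Fin 13 // i ≠ 11})] at this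
      have h12 : Nat.card K ≤ 12 := by
        have h := Nat.card_le_card_of_injective (fun k : K => (⟨f k, fun h =>
          absurd (((k : S) : Perm (Fin 13)).injective (h.trans (k : S).2.2.symm)) (by decide)⟩ : {i : Fin 13 // i ≠ 11}))
          (fun a b h => hfinj (congrArg Subtype.val h))
        rwa [Nat.card_eq_fintype_card (α := {i : Fin 13 // i ≠ 11})] at h
      have hk2 : ∃ k : K, k ≠ 1 := by
        by_contra hall
        push Not at hall
        have : Nat.card K = 1 := Finite.card_le_one_iff_subsingleton.2 ⟨fun a b => by rw [hall a, hall b]⟩ |>.antisymm Nat.card_pos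
        omega
      obtain ⟨k, hk⟩ := hk2
      -- the conjugates of k under X13 give eleven nontrivial elements
      let ψ : Fin 11 → K := fun i => ⟨(⟨X13, hxS⟩ : S) ^ i.1 * k * ((⟨X13, hxS⟩ : S) ^ i.1)⁻¹, hKn.conj_mem _ k.2 _⟩
      have hψ : ∀ i, f (ψ i) = (X13 ^ i.1) (f k) := fun i => by
        show (X13 ^ i.1 * ((k : S) : Perm (Fin 13)) * (X13 ^ i.1)⁻¹) 12 = _
        rw [Perm.mul_apply, Perm.mul_apply, show (X13 ^ i.1)⁻¹ 12 = 12 from Perm.inv_eq_iff_eq.2
          (Perm.pow_apply_eq_self_of_apply_eq_self (by decide) i.1).symm]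
      have hψinj : Function.Injective (fun o : Option (Fin 11) => o.elim (1 : K) ψ) := by
        have hreg : ∀ (v : Fin 13) (i j : Fin 11), v ≠ 11 → v ≠ 12 → (X13 ^ i.1) v = (X13 ^ j.1) v → i = j := by decide
        have hψ1 : ∀ i, ψ i ≠ 1 := fun i h => hk (Subtype.ext (conj_eq_one_iff.1 (congrArg Subtype.val h)))
        rintro (_ | i) (_ | j) h
        · rfl
        · exact absurd h.symm (hψ1 j)
        · exact absurd h (hψ1 i)
        · exact congrArg some (hreg _ i j (hKmove k hk).1 (hKmove k hk).2 (by rw [← hψ, ← hψ]; exact congrArg f h))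
      have := Nat.card_le_card_of_injective _ hψinj
      rw [Nat.card_eq_fintype_card (α := Option (Fin 11))] at this
      simp only [Fintype.card_option, Fintype.card_fin] at this
      exact (show Nat.card K = 12 by omega) ▸ dvd_refl _
    obtain ⟨k2, hk2⟩ := exists_prime_orderOf_dvd_card' (G := K) 2 (dvd_trans (by norm_num) hk12)
    haveI : Fact (Nat.Prime 3) := ⟨by norm_num⟩
    obtain ⟨k3, hk3⟩ := exists_prime_orderOf_dvd_card' (G := K) 3 (dvd_trans (by norm_num) hk12)
    have hk2' : k2 ≠ 1 := fun h => by rw [h, orderOf_one] at hk2; norm_num at hk2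
    have hk3' : k3 ≠ 1 := fun h => by rw [h, orderOf_one] at hk3; norm_num at hk3
    obtain ⟨i, hi⟩ := hc _ _ (hKmove k2 hk2').1 (hKmove k2 hk2').2 (hKmove k3 hk3').1 (hKmove k3 hk3').2
    have hki : (⟨(⟨X13, hxS⟩ : S) ^ i * k2 * ((⟨X13, hxS⟩ : S) ^ i)⁻¹, hKn.conj_mem _ k2.2 _⟩ : K) = k3 := hfinj (by
      show (X13 ^ i * ((k2 : S) : Perm (Fin 13)) * (X13 ^ i)⁻¹) 12 = _
      rw [Perm.mul_apply, Perm.mul_apply, show (X13 ^ i)⁻¹ 12 = 12 from Perm.inv_eq_iff_eq.2
        (Perm.pow_apply_eq_self_of_apply_eq_self (by decide) i).symm]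
      exact hi)
    have := congrArg orderOf hki
    rw [← Subgroup.orderOf_coe, hk3] at this
    simp only [← MulAut.conj_apply, MulEquiv.orderOf_eq, Subgroup.orderOf_coe, hk2] at this
    norm_num at this
  -- Z13 belongs to H
  have hneg : ¬ (Equiv.swap (1 : Fin 13) 10 * Equiv.swap 2 9 * Equiv.swap 3 8 * Equiv.swap 4 7 * Equiv.swap 5 6) ∈ H := fun h => by
    have := hev _ h
    simp only [map_mul] at this
    rw [Perm.sign_swap (by decide), Perm.sign_swap (by decide), Perm.sign_swap (by decide), Perm.sign_swap (by decide), Perm.sign_swap (by decide)] at this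
    exact absurd this (by decide)
  have hM : ∀ r : Fin 11, r.1 = 0 ∨ r.1 = 1 ∨ (∀ a, (M13 r.1)^[5] a = ((Equiv.swap (1 : Fin 13) 10 * Equiv.swap 2 9 * Equiv.swap 3 8 * Equiv.swap 4 7 * Equiv.swap 5 6 : Perm (Fin 13))) a) ∨
      ∃ k : Fin 5, ∀ a, (M13 r.1)^[k.1] a = Z13 a := by decide
  have hMmod : ∀ (r : ℕ) (a : Fin 13), M13 r a = M13 (r % 11) a := fun r a => by
    simp only [M13]; split_ifs <;> simp [Fin.ext_iff, Nat.mod_mul_mod]
  have hrne : ∀ {v : Perm (Fin 13)} {r : ℕ}, v * X13 * v⁻¹ = X13 ^ r → r % 11 ≠ 0 := by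
    intro v r hr h0
    rw [← pow_mod_orderOf, hXo, h0, pow_zero, mul_inv_eq_one, mul_eq_left] at hr
    exact hX1 hr
  have hXfix : ∀ k : ℕ, (X13 ^ k) 11 = 11 ∧ (X13 ^ k) 12 = 12 := fun k =>
    ⟨Perm.pow_apply_eq_self_of_apply_eq_self (by decide) k, Perm.pow_apply_eq_self_of_apply_eq_self (by decide) k⟩
  have hZ : Z13 ∈ H := by
    obtain ⟨v, ⟨hvH, hv11, hv12⟩, hvN, hvne⟩ := hzex
    change v 11 = 11 at hv11
    change v 12 = 12 at hv12
    obtain ⟨r, hr⟩ := exists_pow_conj hvN
    obtain ⟨k, hk⟩ := affine13 hr ⟨fun h => absurd (v.injective (h.trans hv11.symm)) (by decide), fun h => absurd (v.injective (h.trans hv12.symm)) (by decide)⟩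
    have hwM : ⇑(X13 ^ k * v) = M13 (r % 11) := funext fun a => by
      rw [hk, ← hMmod]
      split_ifs with ha
      · rfl
      · simp only [M13, if_neg ha]
        have : a = 11 ∨ a = 12 := by revert ha; revert a; decide
        rcases this with rfl | rfl
        · rw [hv11, (hXfix k).1]
        · rw [hv12, (hXfix k).2]
    have hwH : X13 ^ k * v ∈ H := mul_mem (pow_mem hx k) hvH
    rcases hM ⟨r % 11, Nat.mod_lt _ (by norm_num)⟩ with h | h | h | ⟨j, hj⟩
    · exact absurd h (hrne hr)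
    · refine absurd ?_ hvne
      have h' : r % 11 = 1 := h
      rw [hr, ← pow_mod_orderOf, hXo, h', pow_one]
    · refine absurd ?_ hneg
      convert pow_mem hwH 5 using 1
      refine Perm.ext fun a => ?_
      rw [← h a, ← Perm.iterate_eq_pow, hwM]
    · convert pow_mem hwH j.1 using 1
      refine Perm.ext fun a => ?_
      rw [← hj a, ← Perm.iterate_eq_pow, hwM]
  -- U13 belongs to H
  have hU : U13 ∈ H := by
    obtain ⟨g, hg, g11, g12⟩ : ∃ g ∈ H, g 11 = 12 ∧ g 12 = 11 := by
      obtain ⟨⟨t, ht⟩, hte⟩ := htr.exists_smul_eq (11 : Fin 13) 12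
      change t 11 = 12 at hte
      have hne : t 12 ≠ 12 := fun h => absurd (t.injective (h.trans hte.symm)) (by decide)
      by_cases h11 : t 12 = 11
      · exact ⟨t, ht, hte, h11⟩
      obtain ⟨g, hg, g12, g11⟩ := hmove' (t 12) hne h11
      exact ⟨g⁻¹ * t, mul_mem (inv_mem hg) ht, by rw [Perm.mul_apply, hte, Perm.inv_eq_iff_eq, g12],
        by rw [Perm.mul_apply, Perm.inv_eq_iff_eq, g11]⟩
    obtain ⟨t, htT, hN⟩ := exists_frattini T P (conj_mem_normalizer_inf hg (Or.inr ⟨g11, g12⟩))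
    rw [hPmap] at hN
    have hv11 : (t * g) 11 = 12 := by rw [Perm.mul_apply, g11]; exact htT.2.2
    have hv12 : (t * g) 12 = 11 := by rw [Perm.mul_apply, g12]; exact htT.2.1
    obtain ⟨r, hr⟩ := exists_pow_conj hN
    obtain ⟨k, hk⟩ := affine13 hr ⟨fun h => absurd ((t * g).injective (h.trans hv12.symm)) (by decide), fun h => absurd ((t * g).injective (h.trans hv11.symm)) (by decide)⟩
    set w := X13 ^ k * (t * g)
    have hwH : w ∈ H := mul_mem (pow_mem hx k) (mul_mem htT.1 hg)
    let σ : Fin 13 → Fin 13 := fun a => if a.1 < 11 then M13 (r % 11) a else if a.1 = 11 then 12 else 11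
    have hwσ : ⇑w = σ := funext fun a => by
      rw [hk]
      simp only [σ, ← hMmod]
      split_ifs with ha h1
      · rfl
      · obtain rfl : a = 11 := Fin.ext h1
        rw [hv11, (hXfix k).2]
      · obtain rfl : a = 12 := Fin.ext (by show a.1 = 12; omega)
        rw [hv12, (hXfix k).1]
    have hswap : ∀ q : Fin 11, q.1 = 0 ∨ (∀ a, (fun b : Fin 13 => if b.1 < 11 then M13 q.1 b else if b.1 = 11 then 12 else 11)^[5] a = Equiv.swap (11 : Fin 13) 12 a) ∨
        ∀ a, (fun b : Fin 13 => if b.1 < 11 then M13 q.1 b else if b.1 = 11 then 12 else 11)^[5] a = U13 a := by decide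
    rcases hswap ⟨r % 11, Nat.mod_lt _ (by norm_num)⟩ with h | h | h
    · exact absurd h (hrne hr)
    · have := hev _ (pow_mem hwH 5)
      rw [show w ^ 5 = Equiv.swap (11 : Fin 13) 12 from Perm.ext fun a => by rw [← h a, ← Perm.iterate_eq_pow, hwσ], Perm.sign_swap (by decide)] at this
      exact absurd this (by decide)
    · convert pow_mem hwH 5 using 1
      refine Perm.ext fun a => ?_
      rw [← h a, ← Perm.iterate_eq_pow, hwσ]
  -- a map fixing 11 and exchanging 12 and 0
  obtain ⟨g, hg, g11, g12, g0⟩ : ∃ g ∈ H, g 11 = 11 ∧ g 12 = 0 ∧ g 0 = 12 := by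
    obtain ⟨g1, h1, a1, b1⟩ := hmove 0 (by decide) (by decide)
    have e1 : g1⁻¹ 11 = 11 := by rw [Perm.inv_eq_iff_eq, a1]
    have e2 : g1⁻¹ 0 = 12 := by rw [Perm.inv_eq_iff_eq, b1]
    obtain ⟨k, hk⟩ := hc (g1⁻¹ (g1 0)) (g1⁻¹ 12) (by rw [show g1⁻¹ (g1 0) = 0 from g1.symm_apply_apply 0]; decide)
      (by rw [show g1⁻¹ (g1 0) = 0 from g1.symm_apply_apply 0]; decide)
      (fun h => absurd (g1⁻¹.injective (h.trans e1.symm)) (by decide)) (fun h => absurd (g1⁻¹.injective (h.trans e2.symm)) (by decide))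
    refine ⟨g1 * X13 ^ k * g1⁻¹ * g1, mul_mem (mul_mem (mul_mem h1 (pow_mem hx k)) (inv_mem h1)) h1, ?_, ?_, ?_⟩
    · rw [Perm.mul_apply, Perm.mul_apply, Perm.mul_apply, a1, e1, (hXfix k).1, a1]
    · rw [Perm.mul_apply, Perm.mul_apply, Perm.mul_apply, b1, e2, (hXfix k).2, b1]
    · rw [Perm.mul_apply, Perm.mul_apply, Perm.mul_apply, hk]
      exact g1.apply_symm_apply 12
  set C : Subgroup (Perm (Fin 13)) := H ⊓ stabilizer (Perm (Fin 13)) (11 : Fin 13) ⊓
    (stabilizer (Perm (Fin 13)) (0 : Fin 13) ⊓ stabilizer (Perm (Fin 13)) (12 : Fin 13)) with hC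
  have hgC : g ∈ Subgroup.normalizer (C : Set (Perm (Fin 13))) :=
    conj_mem_normalizer_inf (⟨hg, g11⟩ : g ∈ H ⊓ stabilizer (Perm (Fin 13)) (11 : Fin 13)) (Or.inr ⟨g0, g12⟩)
  have hZC : Z13 ∈ C := ⟨⟨hZ, show Z13 11 = 11 by decide⟩, show Z13 0 = 0 by decide, show Z13 12 = 12 by decide⟩
  have hZ1 : Z13 ≠ 1 := fun h => absurd (Perm.congr_fun h 1) (by decide)
  have hZo : orderOf Z13 = 5 := orderOf_eq_prime (Perm.ext (by decide)) hZ1
  obtain ⟨R, hR⟩ := (IsPGroup.of_card (p := 5) (n := 1) (G := Subgroup.zpowers (⟨Z13, hZC⟩ : C))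
    (by rw [Nat.card_zpowers, Subgroup.orderOf_mk, hZo, pow_one])).exists_le_sylow
  set R0 := (R : Subgroup C).map C.subtype with hR0
  have hZR : Subgroup.zpowers Z13 ≤ R0 := Subgroup.zpowers_le.2 ⟨⟨Z13, hZC⟩, hR (Subgroup.mem_zpowers _), rfl⟩
  have hword : ∀ (s : Perm (Fin 13)), s ∈ H → ∀ w : List ℕ, smallCycle (evalWord [x13, z13, u13, ⇑s] w) = true →
      alternatingGroup (Fin 13) ≤ H := by
    intro s hs w hw
    obtain ⟨h, hh, hhe⟩ := exists_evalWord H [x13, z13, u13, ⇑s] (by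
      intro f hf
      simp only [List.mem_cons, List.not_mem_nil, or_false] at hf
      rcases hf with rfl | rfl | rfl | rfl
      · exact ⟨X13, hx, rfl⟩
      · exact ⟨Z13, hZ, rfl⟩
      · exact ⟨U13, hU, rfl⟩
      · exact ⟨s, hs, rfl⟩) w
    exact alternating_le_of_smallCycle H hH (by norm_num) hh (hhe ▸ hw)
  have hinj : ∀ s : Perm (Fin 13), inj ⇑s = true := fun s => by
    simp only [inj, decide_eq_true_eq]
    exact (List.nodup_finRange 13).map s.injective
  by_cases hRz : R0 = Subgroup.zpowers Z13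
  · obtain ⟨t, htC, hN⟩ := exists_frattini C R hgC
    rw [← hR0, hRz] at hN
    obtain ⟨j, hj⟩ := exists_pow_conj hN
    have ht11 : t 11 = 11 := htC.1.2
    have ht0 : t 0 = 0 := htC.2.1
    have ht12 : t 12 = 12 := htC.2.2
    obtain ⟨n, hn, hne⟩ := cand_eq (t * g) hj true (by rw [Perm.mul_apply, g11, ht11])
      (by rw [Perm.mul_apply, g0, ht12]; rfl) (by rw [Perm.mul_apply, g12, ht0]; rfl)
    have hok := List.all_eq_true.1 okSwap_all n (List.mem_range.2 hn)
    simp only [okSwap, ← hne, hinj, Bool.not_true, Bool.false_or] at hok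
    exact hword _ (mul_mem htC.1.1 hg) _ hok
  · have hlt : Subgroup.zpowers Z13 < R0 := lt_of_le_of_ne hZR (Ne.symm hRz)
    have hRp : IsPGroup 5 R0 := R.isPGroup'.map _
    haveI := hRp.isNilpotent
    have hlt' : (Subgroup.zpowers Z13).subgroupOf R0 < ⊤ := lt_of_le_of_ne le_top fun h => hlt.not_ge (Subgroup.subgroupOf_eq_top.1 h)
    obtain ⟨w, hw, hwZ⟩ := SetLike.exists_of_lt (Group.normalizerCondition_of_isNilpotent _ hlt')
    have hwN : (w : Perm (Fin 13)) ∈ Subgroup.normalizer (Subgroup.zpowers Z13 : Set (Perm (Fin 13))) := by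
      rw [Subgroup.mem_normalizer_iff]
      intro v
      constructor
      · intro hv; exact (Subgroup.mem_normalizer_iff.1 hw ⟨v, hZR hv⟩).1 hv
      · intro hv
        have hvR : v ∈ R0 := by simpa [mul_assoc] using mul_mem (mul_mem (inv_mem w.2) (hZR hv)) w.2
        exact (Subgroup.mem_normalizer_iff.1 hw ⟨v, hvR⟩).2 hv
    obtain ⟨j, hj⟩ := exists_pow_conj hwN
    have hwC : (w : Perm (Fin 13)) ∈ C := Subgroup.map_subtype_le _ w.2
    have hw0 : (w : Perm (Fin 13)) 0 = 0 := hwC.2.1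
    have hw12 : (w : Perm (Fin 13)) 12 = 12 := hwC.2.2
    obtain ⟨n, hn, hne⟩ := cand_eq (w : Perm (Fin 13)) hj false hwC.1.2 (by rw [hw0]; rfl) (by rw [hw12]; rfl)
    have hok := List.all_eq_true.1 okFix_all n (List.mem_range.2 hn)
    simp only [okFix, ← hne, hinj, Bool.not_true, Bool.false_or, Bool.or_eq_true, List.any_eq_true] at hok
    rcases hok with (⟨i, -, hi⟩ | h25) | hw'
    · refine absurd (Subgroup.mem_subgroupOf.2 ?_) hwZ
      have : (w : Perm (Fin 13)) = Z13 ^ i := Perm.ext fun a => by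
        rw [← Perm.iterate_eq_pow]; exact beq_iff_eq.1 (List.all_eq_true.1 hi a (List.mem_finRange a))
      rw [this]; exact pow_mem (Subgroup.mem_zpowers _) i
    · exfalso
      obtain ⟨m, hm⟩ := IsPGroup.iff_orderOf.1 hRp w
      rw [← Subgroup.orderOf_coe] at hm
      have hd : orderOf (w : Perm (Fin 13)) ∣ Nat.factorial 13 := by
        have := orderOf_dvd_natCard (w : Perm (Fin 13))
        rwa [Nat.card_perm, Nat.card_fin] at this
      have hm2 : m ≤ 2 := by
        by_contra hgt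
        push Not at hgt
        exact absurd ((pow_dvd_pow 5 hgt).trans (hm ▸ hd)) (by norm_num [Nat.factorial])
      have h1 : (w : Perm (Fin 13)) ^ 25 = 1 := orderOf_dvd_iff_pow_eq_one.1 (hm ▸ (pow_dvd_pow 5 hm2).trans (by norm_num))
      rw [Bool.not_eq_true'] at h25
      rw [List.all_eq_false] at h25
      obtain ⟨a, -, ha⟩ := h25
      apply ha
      rw [Perm.iterate_eq_pow, h1]
      simp
    · exact hword _ hwC.1.1 _ hw'

end Cfsg.Agent.Lib.GenStruct.TwoPrimeCycles
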